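import Groth.Agent.Etdl.H292.RootAlg
import Groth.Agent.FlatA.SteinNoeth

/-!
# `n`-th roots of units on proper schemes over algebraically closed fields, relative to a subscheme
-/

set_option autoImplicit false

universe u

open CategoryTheory CategoryTheory.Limits AlgebraicGeometry Opposite

namespace Groth.Agent.Etdl.H292.Root

/-- S3733-F -/
theorem F_root (Ω : Type u) [Field Ω] [IsAlgClosed Ω] {Z W : Scheme.{u}}
    (p : Z ⟶ Spec (CommRingCat.of Ω)) [IsProper p]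
    (i : W ⟶ Z) (n : ℕ) (hn : (n : Ω) ≠ 0) (a : Γ(Z, ⊤)) (ha : IsUnit a)
    (h : i.appTop.hom a = 1) :
    ∃ v : Γ(Z, ⊤), v ^ n = a ∧ i.appTop.hom v = 1 := by
  have hfin := Groth.Agent.FlatA.SteinNoeth.finite_toGlobal Ω Z p
  let alg : Algebra Ω Γ(Z, ⊤) :=
    ((Scheme.ΓSpecIso (CommRingCat.of Ω)).inv ≫ p.appTop).hom.toAlgebra
  have hfin' : Module.Finite Ω Γ(Z, ⊤) := hfin
  obtain ⟨v, hv, hv1⟩ := RootAlg.exists_root Ω Γ(Z, ⊤) (RingHom.ker i.appTop.hom) n hn a ha (by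
    rw [RingHom.mem_ker, map_sub, h, map_one, sub_self])
  refine ⟨v, hv, ?_⟩
  rw [RingHom.mem_ker, map_sub, map_one, sub_eq_zero] at hv1
  exact hv1

end Groth.Agent.Etdl.H292.Root
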