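import Groth.Agent.Etdl.H436.CoordChange

/-!
# Coordinate changes fixing one variable

`exists_coordChange` : for a power series `d` in `x_0, …, x_n` (`n ≥ 1`) over an infinite field, not
divisible by `x_0`, there is an isomorphism `K[[x_0, …, x_n]] ≃ K[[y_0, …, y_{n-1}]][[t]]` sending
`x_0` to `y_0` such that the image of `d` is `t`-regular.
-/

set_option autoImplicit false

universe u

namespace Groth.Agent.Etdl.H292.CoordFix

open MvPowerSeries
open Groth.Agent.Etdl.H436.CoordChange

variable {k : Type u} [Field k]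

theorem exists_coeff_ne_zero_fix [Infinite k] {n : ℕ} (i₀ : Fin n)
    (g : MvPowerSeries (Fin (n + 1)) k) (hg : ¬ (X i₀.succ ∣ g)) :
    ∃ (c : Fin (n + 1) → k) (d : ℕ), c 0 ≠ 0 ∧ c i₀.succ = 0 ∧
      coeff (Finsupp.single (0 : Fin (n + 1)) d) (subst (tt (c 0) (fun i => c i.succ)) g) ≠ 0 := by
  obtain ⟨e₀, he₁, he₀⟩ : ∃ e : Fin (n + 1) →₀ ℕ, e i₀.succ = 0 ∧ coeff e g ≠ 0 := by
    by_contra h
    push Not at h
    exact hg (X_dvd_iff.2 h)
  let p : MvPolynomial (Fin (n + 1)) k :=
    ∑ e ∈ Finset.finsuppAntidiag (Finset.univ : Finset (Fin (n + 1))) e₀.degree,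
        MvPolynomial.monomial e (coeff e g)
  let v : Fin (n + 1) → MvPolynomial (Fin (n + 1)) k := Function.update MvPolynomial.X i₀.succ 0
  let ρ : MvPolynomial (Fin (n + 1)) k →ₐ[k] MvPolynomial (Fin (n + 1)) k := MvPolynomial.aeval v
  have hmono : ∀ (e : Fin (n + 1) →₀ ℕ) (a : k), ρ (MvPolynomial.monomial e a) =
      if e i₀.succ = 0 then MvPolynomial.monomial e a else 0 := by
    intro e a
    change MvPolynomial.aeval v (MvPolynomial.monomial e a) = _
    rw [MvPolynomial.aeval_monomial]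
    split_ifs with h
    · rw [MvPolynomial.monomial_eq, MvPolynomial.algebraMap_eq]
      congr 1
      refine Finsupp.prod_congr fun i hi => ?_
      have hne : i ≠ i₀.succ := by
        rintro rfl
        exact (Finsupp.mem_support_iff.1 hi) h
      simp only [v, Function.update_of_ne hne]
    · rw [Finsupp.prod, Finset.prod_eq_zero (i := i₀.succ) (Finsupp.mem_support_iff.2 h), mul_zero]
      simp only [v, Function.update_self]
      exact zero_pow h
  have hp : ρ p ≠ 0 := by
    intro h
    have h1 : (ρ p).coeff e₀ = coeff e₀ g := by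
      change (ρ (∑ e ∈ _, _)).coeff e₀ = _
      rw [map_sum, MvPolynomial.coeff_sum, Finset.sum_eq_single e₀]
      · rw [hmono, if_pos he₁, MvPolynomial.coeff_monomial, if_pos rfl]
      · intro e _ he
        rw [hmono]
        split_ifs
        · rw [MvPolynomial.coeff_monomial, if_neg he]
        · rw [MvPolynomial.coeff_zero]
      · intro h2
        exfalso
        apply h2
        rw [Finset.mem_finsuppAntidiag]
        exact ⟨by rw [Finsupp.degree_eq_sum], Finset.subset_univ _⟩
    rw [h, MvPolynomial.coeff_zero] at h1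
    exact he₀ h1.symm
  have hq : MvPolynomial.X 0 * ρ p ≠ 0 := mul_ne_zero (MvPolynomial.X_ne_zero 0) hp
  obtain ⟨c, hc⟩ : ∃ c, MvPolynomial.eval c (MvPolynomial.X 0 * ρ p) ≠ 0 := by
    by_contra h
    push Not at h
    exact hq (MvPolynomial.funext fun c => by rw [h c, map_zero])
  rw [map_mul, MvPolynomial.eval_X] at hc
  have hev : MvPolynomial.eval c (ρ p) = MvPolynomial.eval (Function.update c i₀.succ 0) p := by
    have : (MvPolynomial.eval c).comp (ρ : MvPolynomial (Fin (n + 1)) k →+* _) =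
        MvPolynomial.eval (Function.update c i₀.succ 0) := by
      refine MvPolynomial.ringHom_ext (fun r => ?_) fun i => ?_
      · simp [ρ]
      · simp only [RingHom.comp_apply, RingHom.coe_coe, ρ, MvPolynomial.aeval_X, v,
          MvPolynomial.eval_X]
        by_cases h : i = i₀.succ
        · subst h
          simp
        · rw [Function.update_of_ne h, Function.update_of_ne h, MvPolynomial.eval_X]
    exact congrArg (fun f : MvPolynomial (Fin (n + 1)) k →+* k => f p) this
  have h0 : (0 : Fin (n + 1)) ≠ i₀.succ := (Fin.succ_ne_zero _).symm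
  refine ⟨Function.update c i₀.succ 0, e₀.degree, ?_, Function.update_self _ _ _, ?_⟩
  · rw [Function.update_of_ne h0]
    exact left_ne_zero_of_mul hc
  · rw [coeff_subst_tt]
    change MvPolynomial.eval _ p ≠ 0
    rw [← hev]
    exact right_ne_zero_of_mul hc

/-- The coordinate change fixing `x_{i₀+1}`. -/
theorem exists_coordChange_aux [Infinite k] {n : ℕ} (i₀ : Fin n)
    (g : MvPowerSeries (Fin (n + 1)) k) (hg : ¬ (X i₀.succ ∣ g)) :
    ∃ e : MvPowerSeries (Fin (n + 1)) k ≃ₐ[k] PowerSeries (MvPowerSeries (Fin n) k),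
      e (X i₀.succ) = PowerSeries.C (X i₀) ∧
      (e g).map (IsLocalRing.residue (MvPowerSeries (Fin n) k)) ≠ 0 := by
  obtain ⟨c, d, hc, hc1, h⟩ := exists_coeff_ne_zero_fix i₀ g hg
  refine ⟨(chg (c 0) (fun i => c i.succ) hc).trans (finSuccEquiv k n), ?_, fun h0 => h ?_⟩
  · rw [AlgEquiv.trans_apply, chg_apply, ← substAlgHom_apply (hasSubst_tt _ _), substAlgHom_X,
      tt_succ, hc1, map_zero, zero_mul, add_zero, finSuccEquiv_X_succ]
  · have h1 := congrArg (PowerSeries.coeff d) h0
    rw [PowerSeries.coeff_map, map_zero, IsLocalRing.residue_eq_zero_iff,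
      IsLocalRing.mem_maximalIdeal, mem_nonunits_iff, MvPowerSeries.isUnit_iff_constantCoeff,
      isUnit_iff_ne_zero, not_not, ← coeff_zero_eq_constantCoeff_apply, AlgEquiv.trans_apply,
      coeff_coeff_finSuccEquiv, chg_apply] at h1
    rw [← h1]
    congr 2
    ext i
    refine Fin.cases ?_ (fun i => ?_) i
    · simp
    · rw [Finsupp.cons_succ, Finsupp.single_apply, if_neg (Fin.succ_ne_zero i).symm]
      rfl

theorem X_dvd_rename {n : ℕ} (e : Equiv.Perm (Fin n)) (i : Fin n) (g : MvPowerSeries (Fin n) k) :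
    X (e i) ∣ renameEquiv k e g ↔ X i ∣ g := by
  have h : X (e i) = renameEquiv k e (X i) := (rename_X (R := k) (f := e) i).symm
  rw [h]
  exact map_dvd_iff (renameEquiv k e)

/-- **P10**: coordinate change fixing `x_0`. -/
theorem exists_coordChange (K : Type u) [Field K] [Infinite K] (n : ℕ) (hn : 1 ≤ n)
    (d : MvPowerSeries (Fin (n + 1)) K) (hd : ¬ (MvPowerSeries.X 0 ∣ d)) :
    ∃ e : MvPowerSeries (Fin (n + 1)) K ≃ₐ[K] PowerSeries (MvPowerSeries (Fin n) K),
      e (MvPowerSeries.X 0) = PowerSeries.C (MvPowerSeries.X ⟨0, hn⟩) ∧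
      (e d).map (IsLocalRing.residue (MvPowerSeries (Fin n) K)) ≠ 0 := by
  let i₀ : Fin n := ⟨0, hn⟩
  let s : Equiv.Perm (Fin (n + 1)) := Equiv.swap 0 i₀.succ
  have hs : s 0 = i₀.succ := Equiv.swap_apply_left _ _
  have hg : ¬ (X i₀.succ ∣ renameEquiv K s d) := by
    rw [← hs, X_dvd_rename]
    exact hd
  obtain ⟨e, he, he'⟩ := exists_coordChange_aux i₀ _ hg
  refine ⟨(renameEquiv K s).trans e, ?_, ?_⟩
  · rw [AlgEquiv.trans_apply]
    have h : renameEquiv K s (X 0) = X i₀.succ := by
      rw [← hs]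
      exact rename_X (R := K) (f := s) 0
    rw [h, he]
  · rw [AlgEquiv.trans_apply]
    exact he'

end Groth.Agent.Etdl.H292.CoordFix
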