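import Groth.Agent.Ega4late.H543.PowFinite

/-!
# Complete local `k`-algebras are finite over power series rings

`exists_finite_powerSeries`: `R` a complete Noetherian local `k`-algebra with residue field `k`, and
`y_1, …, y_d` generating an ideal primary to the maximal ideal. Then `R` is finite over
`k[[x_1, …, x_d]]`, `x_i ↦ y_i`.
-/

set_option autoImplicit false

universe u

namespace Groth.Agent.Etdl.H292.FinPow

open IsLocalRing

/-- P1 (FIN) -/
theorem exists_finite_powerSeries (k : Type u) [Field k] (R : Type u) [CommRing R] [IsLocalRing R]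
    [IsNoetherianRing R] [IsAdicComplete (maximalIdeal R) R] [Algebra k R]
    (hres : Function.Surjective (algebraMap k (ResidueField R)))
    (d : ℕ) (y : Fin d → R) (hy : ∀ i, y i ∈ maximalIdeal R)
    (hyr : maximalIdeal R ≤ (Ideal.span (Set.range y)).radical) :
    ∃ φ : MvPowerSeries (Fin d) k →ₐ[k] R, φ.toRingHom.Finite ∧
      ∀ i, φ (MvPowerSeries.X i) = y i := by
  have : Module.Finite k (ResidueField R) := Module.Finite.of_surjective
    (Algebra.linearMap k (ResidueField R)) hres
  exact ⟨Groth.Agent.Ega41.PowEval.powEval (maximalIdeal R) y hy,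
    Groth.Agent.Ega4late.H543.PowFinite.finite_powEval y hy hyr,
    fun i => Groth.Agent.Ega41.PowEval.powEval_X _ y hy i⟩

end Groth.Agent.Etdl.H292.FinPow
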