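import Mathlib.Dynamics.Newton
import Mathlib.FieldTheory.IsAlgClosed.Basic
import Mathlib.RingTheory.Artinian.Module
import Mathlib.RingTheory.Artinian.Ring
import Mathlib.RingTheory.Ideal.Quotient.Operations
import Mathlib.FieldTheory.IsAlgClosed.AlgebraicClosure

/-!
# `n`-th roots of units `≡ 1 mod I` in finite algebras over algebraically closed fields
-/

set_option autoImplicit false

universe u v

namespace Groth.Agent.Etdl.H292.RootAlg

open Polynomial

/-- In a ring where `n` is invertible, `1` is the only `n`-th root of unity congruent to `1` modulo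
nilpotents. -/
theorem eq_one_of_isNilpotent {B : Type u} [CommRing B] (n : ℕ) (hn : IsUnit (n : B)) (w : B)
    (hw : w ^ n = 1) (h : IsNilpotent (w - 1)) : w = 1 := by
  have h1 : (w - 1) * ∑ i ∈ Finset.range n, w ^ i = 0 := by
    rw [mul_geom_sum, hw, sub_self]
  have h2 : IsNilpotent (∑ i ∈ Finset.range n, w ^ i - (n : B)) := by
    have h3 : ∑ i ∈ Finset.range n, w ^ i - (n : B) = ∑ i ∈ Finset.range n, (w ^ i - 1) := by
      rw [Finset.sum_sub_distrib]
      simp
    rw [h3]
    refine isNilpotent_sum fun i _ => ?_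
    obtain ⟨c, hc⟩ : (w - 1) ∣ w ^ i - 1 := sub_one_dvd_pow_sub_one w i
    rw [hc]
    exact (Commute.all _ _).isNilpotent_mul_right h
  have h4 : IsUnit (∑ i ∈ Finset.range n, w ^ i) := by
    have h5 : ∑ i ∈ Finset.range n, w ^ i =
        (n : B) + (∑ i ∈ Finset.range n, w ^ i - (n : B)) := by ring
    rw [h5]
    exact h2.isUnit_add_left_of_commute hn (Commute.all _ _)
  exact sub_eq_zero.1 ((h4.mul_left_eq_zero).1 h1)

/-- `n`-th roots relative to an ideal. -/
theorem exists_root (Ω : Type v) [Field Ω] [IsAlgClosed Ω] (A : Type u) [CommRing A] [Algebra Ω A]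
    [Module.Finite Ω A] (I : Ideal A) (n : ℕ) (hn : (n : Ω) ≠ 0) (a : A) (ha : IsUnit a)
    (h : a - 1 ∈ I) : ∃ v : A, v ^ n = a ∧ v - 1 ∈ I := by
  classical
  have hn0 : n ≠ 0 := by
    rintro rfl
    simp at hn
  have hnA : IsUnit (n : A) := by
    have := (isUnit_iff_ne_zero.2 hn).map (algebraMap Ω A)
    rwa [map_natCast] at this
  have hart : IsArtinianRing A := IsArtinianRing.of_finite Ω A
  -- values at the maximal ideals
  have hval : ∀ (m : MaximalSpectrum A), ∃ r : Ω, (I ≤ m.asIdeal → r = 1) ∧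
      (algebraMap Ω A r) ^ n - a ∈ m.asIdeal := by
    intro m
    by_cases hm : I ≤ m.asIdeal
    · exact ⟨1, fun _ => rfl, by
        rw [map_one, one_pow, ← neg_sub]
        exact neg_mem (hm h)⟩
    · have := m.isMaximal
      let : Field (A ⧸ m.asIdeal) := Ideal.Quotient.field _
      have hfin : Module.Finite Ω (A ⧸ m.asIdeal) := inferInstance
      have hsurj : Function.Surjective (algebraMap Ω (A ⧸ m.asIdeal)) :=
        (IsAlgClosed.algebraMap_bijective_of_isIntegral (k := Ω) (K := A ⧸ m.asIdeal)).2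
      obtain ⟨b, hb⟩ := hsurj (Ideal.Quotient.mk _ a)
      obtain ⟨r, hr⟩ := IsAlgClosed.exists_pow_nat_eq b (Nat.pos_of_ne_zero hn0)
      refine ⟨r, fun h' => (hm h').elim, ?_⟩
      rw [← Ideal.Quotient.eq, ← hb, map_pow, ← hr, map_pow]
      rfl
  choose r hr1 hr using hval
  have hfin : Finite (MaximalSpectrum A) := inferInstance
  obtain ⟨w, hw⟩ : ∃ w : A, ∀ m : MaximalSpectrum A, w - algebraMap Ω A (r m) ∈ m.asIdeal := by
    have hcop : Pairwise (Function.onFun IsCoprime (fun m : MaximalSpectrum A => m.asIdeal)) := by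
      intro m m' hmm'
      have := m.isMaximal
      have := m'.isMaximal
      exact Ideal.isCoprime_of_isMaximal fun h' => hmm' (MaximalSpectrum.ext h')
    obtain ⟨w, hw⟩ := Ideal.exists_forall_sub_mem_ideal hcop (fun m => algebraMap Ω A (r m))
    exact ⟨w, hw⟩
  have hnil : ∀ x : A, (∀ m : MaximalSpectrum A, x ∈ m.asIdeal) → IsNilpotent x := by
    intro x hx
    rw [← mem_nilradical, nilradical_eq_sInf, Ideal.mem_sInf]
    intro J hJ
    have hJ' : J.IsPrime := hJ
    exact hx ⟨J, inferInstance⟩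
  have hwn : IsNilpotent (w ^ n - a) := by
    refine hnil _ fun m => ?_
    have h1 : w ^ n - a = (w ^ n - (algebraMap Ω A (r m)) ^ n) + ((algebraMap Ω A (r m)) ^ n - a) := by
      ring
    rw [h1]
    refine add_mem ?_ (hr m)
    obtain ⟨c, hc⟩ := sub_dvd_pow_sub_pow w (algebraMap Ω A (r m)) n
    rw [hc]
    exact Ideal.mul_mem_right _ _ (hw m)
  have hwu : IsUnit w := by
    have h1 : IsUnit (w ^ n) := by
      have h2 : w ^ n = a + (w ^ n - a) := by ring
      rw [h2]
      exact hwn.isUnit_add_left_of_commute ha (Commute.all _ _)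
    exact (isUnit_pow_iff hn0).1 h1
  -- Newton
  obtain ⟨v, ⟨hv1, hv2⟩, -⟩ := Polynomial.existsUnique_nilpotent_sub_and_aeval_eq_zero
    (R := A) (S := A) (P := X ^ n - C a) (x := w) (by simpa using hwn) (by
      simp only [derivative_sub, derivative_X_pow, derivative_C, sub_zero, map_mul, map_natCast,
        map_pow, aeval_X]
      exact hnA.mul (hwu.pow _))
  have hvn : v ^ n = a := by
    have : v ^ n - a = 0 := by simpa using hv2
    exact sub_eq_zero.1 this
  refine ⟨v, hvn, ?_⟩
  -- `v ≡ 1` modulo every maximal ideal containing `I`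
  rw [← Ideal.Quotient.eq, map_one]
  refine eq_one_of_isNilpotent n ?_ _ ?_ ?_
  · have := hnA.map (Ideal.Quotient.mk I)
    rwa [map_natCast] at this
  · rw [← map_pow, hvn, ← map_one (Ideal.Quotient.mk I), Ideal.Quotient.eq]
    exact h
  · rw [← map_one (Ideal.Quotient.mk I), ← map_sub, ← mem_nilradical, nilradical_eq_sInf,
      Ideal.mem_sInf]
    intro J hJ
    have hJ' : J.IsPrime := hJ
    rw [← Ideal.mem_comap]
    have hp : (J.comap (Ideal.Quotient.mk I)).IsPrime := inferInstance
    let m : MaximalSpectrum A := ⟨J.comap (Ideal.Quotient.mk I), inferInstance⟩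
    have hI : I ≤ m.asIdeal := by
      intro x hx
      change Ideal.Quotient.mk I x ∈ J
      rw [Ideal.Quotient.eq_zero_iff_mem.2 hx]
      exact zero_mem _
    have h1 := hw m
    rw [hr1 m hI, map_one] at h1
    have h2 : w - v ∈ m.asIdeal := by
      obtain ⟨k, hk⟩ := hv1
      refine hp.mem_of_pow_mem k ?_
      rw [hk]
      exact zero_mem _
    have h3 : v - 1 = (w - 1) - (w - v) := by ring
    rw [h3]
    exact sub_mem h1 h2

end Groth.Agent.Etdl.H292.RootAlg
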